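import Groth.Agent.AbVar.K578.PackFin
import Groth.Agent.AbVar.K511.PackB
import Groth.Agent.AbVar.K526.Fam

/-!
# Generic ranks of the cohomology in a family, over finite schemes

`A` proper over a field `k`, `T` integral and locally of finite type over `k`, `G` coherent on `A × T` and flat over
`T`: there are a non-empty open `U ⊆ T` and `r` such that `dim_k H^p(A × K, G_K) = r · dim_k Γ(K)` for all finite
`k`-schemes `K` over `U`.
-/

set_option autoImplicit false
universe u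

open CategoryTheory CategoryTheory.Limits MonoidalCategory CartesianMonoidalCategory AlgebraicGeometry

namespace K578.FamRank

open Groth.Agent Groth.Agent.Fga.PicMon Groth.Agent.Fga Groth.Agent.Pic13.H11.Cls Groth.Agent.Pic13.H11.NumU
open K511.PackB K578.PackFin K526.PullM

section Ring

variable {Y : Scheme.{u}} {V : Y.Opens} (B : Type u) [CommRing B] (t : Spec (CommRingCat.of B) ⟶ Y)

/-- The ring map attached to a morphism `Spec B ⟶ Y` with image in `V`. -/
noncomputable def φ (h : ⊤ ≤ t ⁻¹ᵁ V) : Γ(Y, V) →+* B :=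
  (Scheme.ΓSpecIso (CommRingCat.of B)).hom.hom.comp (t.appLE V ⊤ h).hom

theorem ofHom_φ (h : ⊤ ≤ t ⁻¹ᵁ V) : CommRingCat.ofHom (φ B t h) = t.appLE V ⊤ h ≫ (Scheme.ΓSpecIso (CommRingCat.of B)).hom := rfl

theorem map_φ (hV : IsAffineOpen V) (h : ⊤ ≤ t ⁻¹ᵁ V) : Spec.map (CommRingCat.ofHom (φ B t h)) ≫ hV.fromSpec = t := by
  rw [ofHom_φ, Spec.map_comp, Category.assoc, hV.SpecMap_appLE_fromSpec t (isAffineOpen_top _) h,
    IsAffineOpen.fromSpec_top, Scheme.isoSpec_Spec_inv, ← Category.assoc, ← Spec.map_comp, Iso.inv_hom_id,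
    Spec.map_id, Category.id_comp]

theorem isUnit_φ (h : ⊤ ≤ t ⁻¹ᵁ V) (f : Γ(Y, V)) (hf : ⊤ ≤ t ⁻¹ᵁ (Y.basicOpen f)) : IsUnit (φ B t h f) := by
  have h1 : t.appLE V ⊤ h = Y.presheaf.map (homOfLE (Y.basicOpen_le f)).op ≫ t.appLE (Y.basicOpen f) ⊤ hf := by
    rw [Scheme.Hom.map_appLE]
  have h2 : IsUnit (Y.presheaf.map (homOfLE (Y.basicOpen_le f)).op f) :=
    RingedSpace.isUnit_res_basicOpen Y.toRingedSpace f
  change IsUnit ((Scheme.ΓSpecIso (CommRingCat.of B)).hom.hom ((t.appLE V ⊤ h).hom f))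
  refine IsUnit.map _ ?_
  rw [h1]
  exact h2.map (t.appLE (Y.basicOpen f) ⊤ hf).hom

end Ring

variable {k : Type u} [Field k]

/-- A finite `k`-algebra as a scheme over `k`. -/
noncomputable abbrev spB (k : Type u) [Field k] (B : Type u) [CommRing B] [Algebra k B] : Over (Spec (CommRingCat.of k)) :=
  Over.mk (Spec.map (CommRingCat.ofHom (algebraMap k B)))

variable {A T : Over (Spec (CommRingCat.of k))}

theorem isPullback_left {K : Over (Spec (CommRingCat.of k))} (u : K ⟶ T) :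
    IsPullback (A ◁ u).left (snd A K).left (snd A T).left u.left :=
  (K526.Prod.isPullback_wl A u).map (Over.forget _)

theorem algebraMap_comp {V : T.left.Opens} {B : Type u} [CommRing B] [Algebra k B] (t : Spec (CommRingCat.of B) ⟶ T.left)
    (ht : t ≫ T.hom = Spec.map (CommRingCat.ofHom (algebraMap k B))) (h : ⊤ ≤ t ⁻¹ᵁ V) (h' : V ≤ T.hom ⁻¹ᵁ ⊤) :
    (φ B t h).comp ((T.hom.appLE ⊤ V h').hom.comp (Scheme.ΓSpecIso (CommRingCat.of k)).inv.hom) = algebraMap k B := by
  have h1 : T.hom.appLE ⊤ V h' ≫ t.appLE V ⊤ h = (t ≫ T.hom).appLE ⊤ ⊤ le_top := by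
    rw [Scheme.Hom.appLE_comp_appLE]
  have h2 : (Scheme.ΓSpecIso (CommRingCat.of k)).inv ≫ (t ≫ T.hom).appLE ⊤ ⊤ le_top ≫
      (Scheme.ΓSpecIso (CommRingCat.of B)).hom = CommRingCat.ofHom (algebraMap k B) := by
    rw [ht, Iso.inv_comp_eq, ← Scheme.ΓSpecIso_naturality]
    exact congrArg (· ≫ (Scheme.ΓSpecIso (CommRingCat.of B)).hom)
      (Scheme.Hom.app_eq_appLE (f := Spec.map (CommRingCat.ofHom (algebraMap k B))) (U := ⊤)).symm
  rw [← h1] at h2
  have h3 := congrArg CommRingCat.Hom.hom h2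
  ext x
  exact congr($h3 x)

omit [Field k] in
theorem toGlobal_map {k : Type u} [CommRing k] {X : Scheme.{u}} {B : Type u} [CommRing B] [Algebra k B]
    (q : X ⟶ Spec (CommRingCat.of B)) (c : k) :
    Coh.toGlobal (q ≫ Spec.map (CommRingCat.ofHom (algebraMap k B))) c = Coh.toGlobal q (algebraMap k B c) := by
  have h : (Scheme.ΓSpecIso (CommRingCat.of k)).inv ≫ (q ≫ Spec.map (CommRingCat.ofHom (algebraMap k B))).appTop =
      CommRingCat.ofHom (algebraMap k B) ≫ (Scheme.ΓSpecIso (CommRingCat.of B)).inv ≫ q.appTop := by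
    rw [Scheme.Hom.comp_appTop, ← Category.assoc, ← Category.assoc, Scheme.ΓSpecIso_inv_naturality]
  exact congr($(congrArg CommRingCat.Hom.hom h) c)

theorem exists_famRank [IsProper A.hom] [LocallyOfFiniteType T.hom] [IsIntegral T.left] {G : (A ⊗ T).left.Modules}
    (hG : Coh.IsCoh G) (hf : FlatMod.IsFlatOver (snd A T).left G) (p : ℕ) :
    ∃ (U : T.left.Opens) (r : ℕ), (U : Set T.left).Nonempty ∧ ∀ (B : Type u) [CommRing B] [Algebra k B]
      [Module.Finite k B] (u : spB k B ⟶ T), Set.range u.left ⊆ U →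
        h k p (pm (A ◁ u).left (mc G)) = r * Module.finrank k B := by
  have hT : IsLocallyNoetherian T.left := LocallyOfFiniteType.isLocallyNoetherian T.hom
  have hp : IsProper (snd A T).left := inferInstanceAs (IsProper (pullback.snd A.hom T.hom))
  obtain ⟨V, hV, x, hx⟩ : ∃ V : T.left.Opens, IsAffineOpen V ∧ ∃ x, x ∈ V := by
    obtain ⟨x⟩ := (inferInstance : Nonempty T.left)
    obtain ⟨V, hV, hx, -⟩ := exists_isAffineOpen_mem_and_subset (X := T.left) (x := x) (U := ⊤) trivial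
    exact ⟨V, hV, x, hx⟩
  have hne : Nonempty V := ⟨⟨x, hx⟩⟩
  obtain ⟨P, hP, -, -, -, hB⟩ := package (snd A T).left G hG hf V hV
  have hN : IsNoetherianRing Γ(T.left, V) := IsLocallyNoetherian.component_noetherian ⟨V, hV⟩
  have hD : IsDomain Γ(T.left, V) := inferInstance
  obtain ⟨f, r, hf0, hr⟩ := PackFin.exists_rank P (fun i => (hP i).1) (-(p : ℤ))
  have hle : ∀ {U : T.left.Opens} {B : Type u} [CommRing B] (t : Spec (CommRingCat.of B) ⟶ T.left),
      Set.range t ⊆ U → ⊤ ≤ t ⁻¹ᵁ U := fun t ht z _ => ht ⟨z, rfl⟩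
  refine ⟨T.left.basicOpen f, r, ?_, fun B _ _ _ u hu => ?_⟩
  · have : T.left.basicOpen f ≠ ⊥ := fun h => hf0 ((basicOpen_eq_bot_iff f).mp h)
    by_contra hne'
    rw [Set.not_nonempty_iff_eq_empty] at hne'
    exact this (TopologicalSpace.Opens.ext hne')
  have hu1 : ⊤ ≤ u.left ⁻¹ᵁ V := (hle u.left hu).trans (Scheme.Hom.preimage_mono u.left (T.left.basicOpen_le f))
  let _ : Algebra Γ(T.left, V) B := (φ B u.left hu1).toAlgebra
  let _ : Algebra k Γ(T.left, V) := ((T.hom.appLE ⊤ V le_top).hom.comp (Scheme.ΓSpecIso (CommRingCat.of k)).inv.hom).toAlgebra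
  have i1 : IsScalarTower k Γ(T.left, V) B := IsScalarTower.of_algebraMap_eq' (algebraMap_comp u.left (Over.w u) hu1 le_top).symm
  have hunit : IsUnit (algebraMap Γ(T.left, V) B f) := isUnit_φ B u.left hu1 f (hle u.left hu)
  have key := hr k B hunit
  have hmap : Spec.map (CommRingCat.ofHom (algebraMap Γ(T.left, V) B)) ≫ hV.fromSpec = u.left := map_φ B u.left hV hu1
  obtain ⟨e, he⟩ := hB B (A ⊗ spB k B).left (A ◁ u).left (snd A (spB k B)).left (by
    rw [hmap]
    exact isPullback_left u) p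
  rw [pm_mc, h_mc, ← key]
  let _ : Module k ((CohIII.TFun P (-(p : ℤ))).obj (ModuleCat.of Γ(T.left, V) B)) :=
    Module.compHom _ (algebraMap k Γ(T.left, V))
  have hs : ∀ (c : k) (x : Coh.HH (A ⊗ spB k B).left ((Scheme.Modules.pullback (A ◁ u).left).obj G) p),
      e (c • x) = c • e x := by
    intro c x
    have h1 : Coh.toGlobal ((A ⊗ spB k B).left ↘ Spec (CommRingCat.of k)) c =
        Coh.toGlobal (snd A (spB k B)).left (algebraMap k B c) := by
      rw [← toGlobal_map]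
      exact congrArg (fun q => Coh.toGlobal q c) (Over.w (snd A (spB k B))).symm
    have h2 := he (algebraMap k B c) x
    rw [IsScalarTower.algebraMap_apply k Γ(T.left, V) B, Ega3B.FibreCmp.mulB_algebraMap,
      Ega3B.FibreRank.TFun_map_smul, ← IsScalarTower.algebraMap_apply k Γ(T.left, V) B, ← h1] at h2
    exact h2
  exact LinearEquiv.finrank_eq { e with map_smul' := hs }

end K578.FamRank
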