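import Groth.Agent.Grpsch.MulFin
import Groth.Agent.S1842
import Groth.Agent.AbVar.K518.Phi

/-!
# The kernel of multiplication by `m` as a finite algebra

`k` a field, `A` an abelian variety of dimension `g`, `m ≥ 1`: there are a finite `k`-algebra `B` of dimension `m^(2g)`
and `κ : Spec B ⟶ A` which is the kernel of `[m]`.
-/

set_option autoImplicit false
universe u
open CategoryTheory CategoryTheory.Limits MonoidalCategory CartesianMonoidalCategory MonObj GrpObj AlgebraicGeometry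

namespace K578.MulKer

open Groth.Agent K518.Phi

variable {k : Type u} [Field k]

/-- A `k`-algebra as a scheme over `k`. -/
noncomputable abbrev spB (k : Type u) [Field k] (B : Type u) [CommRing B] [Algebra k B] : Over (Spec (CommRingCat.of k)) :=
  Over.mk (Spec.map (CommRingCat.ofHom (algebraMap k B)))

/-- A finite morphism to the spectrum of a field. -/
theorem exists_alg {X : Scheme.{u}} (f : X ⟶ Spec (CommRingCat.of k)) [IsFinite f] :
    ∃ (B : Type u) (_ : CommRing B) (_ : Algebra k B) (e : Spec (CommRingCat.of B) ≅ X), Module.Finite k B ∧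
      e.hom ≫ f = Spec.map (CommRingCat.ofHom (algebraMap k B)) := by
  have hX : IsAffine X := isAffine_of_isAffineHom f
  let φ : k →+* Γ(X, ⊤) := f.appTop.hom.comp (Scheme.ΓSpecIso (CommRingCat.of k)).inv.hom
  let _ : Algebra k Γ(X, ⊤) := φ.toAlgebra
  have h1 : X.isoSpec.inv ≫ f = Spec.map (CommRingCat.ofHom (algebraMap k Γ(X, ⊤))) := by
    rw [Iso.inv_comp_eq]
    have h2 : CommRingCat.ofHom (algebraMap k Γ(X, ⊤)) = (Scheme.ΓSpecIso (CommRingCat.of k)).inv ≫ f.appTop := rfl
    rw [h2, Spec.map_comp, Scheme.isoSpec_hom_naturality_assoc, ← Scheme.isoSpec_Spec_inv, Iso.hom_inv_id,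
      Category.comp_id]
  refine ⟨Γ(X, ⊤), inferInstance, inferInstance, X.isoSpec.symm, ?_, h1⟩
  have h3 : IsFinite (Spec.map (CommRingCat.ofHom (algebraMap k Γ(X, ⊤)))) := by
    rw [← h1]
    infer_instance
  rw [IsFinite.SpecMap_iff] at h3
  exact RingHom.finite_algebraMap.mp h3

variable (A : Over (Spec (CommRingCat.of k))) [GrpObj A] [IsProper A.hom] [GeometricallyIntegral A.hom]

theorem exists_ker (g : ℕ) (hg : topologicalKrullDim A.left = g) (m : ℕ) (hm : 1 ≤ m) :
    ∃ (B : Type u) (_ : CommRing B) (_ : Algebra k B) (_ : Module.Finite k B) (κ : spB k B ⟶ A),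
      IsPullback κ (toUnit _) ((𝟙 A : A ⟶ A) ^ m) η[A] ∧ Module.finrank k B = m ^ (2 * g) := by
  obtain ⟨n1, n2, n3⟩ := S1842.pos_case k A g hg m hm
  let η' : Spec (CommRingCat.of k) ⟶ A.left := (η[A] : 𝟙_ (Over (Spec (CommRingCat.of k))) ⟶ A).left
  have hη' : η' ≫ A.hom = 𝟙 _ := Over.w (η[A] : 𝟙_ (Over (Spec (CommRingCat.of k))) ⟶ A)
  have sq : IsPullback (pullback.fst ((𝟙 A : A ⟶ A) ^ m).left η') (pullback.snd ((𝟙 A : A ⟶ A) ^ m).left η')
      ((𝟙 A : A ⟶ A) ^ m).left η' := IsPullback.of_hasPullback _ _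
  have f1 : IsFinite (pullback.snd ((𝟙 A : A ⟶ A) ^ m).left η') := inferInstance
  obtain ⟨B, i1, i2, e, hfin, he⟩ := exists_alg (pullback.snd ((𝟙 A : A ⟶ A) ^ m).left η')
  have hw : (e.hom ≫ pullback.fst ((𝟙 A : A ⟶ A) ^ m).left η') ≫ A.hom = Spec.map (CommRingCat.ofHom (algebraMap k B)) := by
    have h := sq.w =≫ A.hom
    simp only [Category.assoc, hη', Over.w, Category.comp_id] at h
    rw [Category.assoc, h, he]
  have sq' : IsPullback (e.hom ≫ pullback.fst ((𝟙 A : A ⟶ A) ^ m).left η') (Spec.map (CommRingCat.ofHom (algebraMap k B)))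
      ((𝟙 A : A ⟶ A) ^ m).left η' := by
    refine IsPullback.of_iso sq e.symm (Iso.refl _) (Iso.refl _) (Iso.refl _) ?_ ?_ ?_ ?_
    · simp
    · rw [← he]; simp
    · simp
    · simp
  let κ : spB k B ⟶ A := Over.homMk (e.hom ≫ pullback.fst ((𝟙 A : A ⟶ A) ^ m).left η') hw
  have ht : (toUnit (spB k B)).left = Spec.map (CommRingCat.ofHom (algebraMap k B)) := by
    have h := Over.w (toUnit (spB k B))
    exact (Category.comp_id _).symm.trans h
  refine ⟨B, i1, i2, hfin, κ, ?_, ?_⟩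
  · refine IsPullback.of_map (Over.forget _) ?_ ?_
    · ext1
      change (e.hom ≫ pullback.fst ((𝟙 A : A ⟶ A) ^ m).left η') ≫ ((𝟙 A : A ⟶ A) ^ m).left = (toUnit (spB k B)).left ≫ η'
      rw [ht]
      exact sq'.w
    · change IsPullback (e.hom ≫ pullback.fst ((𝟙 A : A ⟶ A) ^ m).left η') (toUnit (spB k B)).left
        ((𝟙 A : A ⟶ A) ^ m).left η'
      rw [ht]
      exact sq'
  · have h1 := Scheme.Hom.finrank_of_isPullback _ _ _ _ sq' (IsLocalRing.closedPoint k)
    rw [n3] at h1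
    rw [← h1]
    have h2 := Scheme.Hom.finrank_SpecMap_algebraMap k B (IsLocalRing.closedPoint k)
    exact (h2.trans (Module.rankAtStalk_eq_finrank_of_free (R := k) (M := B) ▸ rfl)).symm

end K578.MulKer
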