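import Groth.Agent.AbVar.K578.PushPoinc
import Groth.Agent.AbVar.K232.FMFinal
import Groth.Agent.AbVar.K512.PoincPow
import Groth.Agent.Grpsch.MulFin

/-!
# The direct image of the structure sheaf under multiplication by `m`

`[m]_* O_A ≅ pr_{1*} (P|_{A × Aᵗ[m]})` for `m ≥ 1`, where `P` is the Poincaré module.
-/

set_option autoImplicit false

universe u

open CategoryTheory CategoryTheory.Limits MonoidalCategory CartesianMonoidalCategory MonObj GrpObj
  AlgebraicGeometry

attribute [local instance] HasDerivedCategory.standard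

namespace K578.MulPush

open Groth.Agent Groth.Agent.Grpsch.PicGrp Groth.Agent.Fga.RigGrp K732.PicZero K732.RigSheaf K732.Dual
  K353.OnSub K353.Calc K353.Conv K232.FMAV K232.FMFinal K578.PushPoinc

section Sq

variable {C : Type*} [Category C] [CartesianMonoidalCategory C]

theorem sqS (A : C) {K B : C} (κ : K ⟶ B) : IsPullback (snd A K) (lift (snd A K ≫ κ) (fst A K)) κ (fst B A) := by
  refine ⟨⟨by simp⟩, ⟨PullbackCone.IsLimit.mk _ (fun c => lift (c.snd ≫ snd B A) c.fst) (fun c => by simp)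
    (fun c => ?_) (fun c m h1 h2 => ?_)⟩⟩
  · apply CartesianMonoidalCategory.hom_ext
    · simp [c.condition]
    · simp
  · apply CartesianMonoidalCategory.hom_ext
    · simp [← h2]
    · simp [← h1]

end Sq

variable {k : Type u} [Field k] {A At : Over (Spec (CommRingCat.of k))} [GrpObj A] [IsProper A.hom]
  [Smooth A.hom] [GeometricallyConnected A.hom] [GrpObj At] [IsProper At.hom] [Smooth At.hom]
  [GeometricallyConnected At.hom]
variable {φ : ∀ T : Over (Spec (CommRingCat.of k)), PicF.Cl (PicF.XT A.hom T) → (T ⟶ At)}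
  (hφ : AbDual.IsDualAV Scheme.fppfPrecoverage A At φ)
  {P : (pullback A.hom At.hom).Modules} (hP : PicF.IsInvertible P)
  (hPξ : AbDual.IsPoincareCl A At φ (PicF.cl P))

include hφ hP hPξ

omit [Smooth At.hom] in
theorem nonempty_poinc (m : ℕ) : Nonempty ((Scheme.Modules.pullback (AbDual.bcMap ((𝟙 A : A ⟶ A) ^ m) At)).obj P ≅
    (Scheme.Modules.pullback (PicF.XTmap A.hom ((𝟙 At : At ⟶ At) ^ m))).obj P) := by
  have := K732.AV.geomInt A
  obtain ⟨ζ, h1, h2, h3, h4⟩ := K732.AV.exists_of_isPoincareCl hPξ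
  have e : ζ = mk P hP := toCl_injective h4
  subst e
  have h5 := K512.PoincPow.pull_bcMap_pow hφ h1 h2 m
  rw [← K512.PoincPow.pull_XTmap_pow hφ h1 h2 h3 m] at h5
  exact (mk_eq_iff _ _).1 h5

/-- `[m]_* O_A ≅ pr_{1*} (P|_{A × Aᵗ[m]})`. -/
theorem nonempty_mul (m : ℕ) (hm : 1 ≤ m) (g : ℕ) [HasInjectiveResolutions (pullback A.hom At.hom).Modules]
    (h1 : PC (pullback.fst A.hom At.hom) η[A].left P g) (h2 : PC (pullback.snd A.hom At.hom) η[At].left P g)
    {K : Over (Spec (CommRingCat.of k))} {κ : K ⟶ At} (sq : IsPullback κ (toUnit K) ((𝟙 At : At ⟶ At) ^ m) η[At]) :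
    Nonempty ((Scheme.Modules.pushforward ((𝟙 A : A ⟶ A) ^ m).left).obj (Coh.structureModule A.left) ≅
      (Scheme.Modules.pushforward (fst A K).left).obj ((Scheme.Modules.pullback (A ◁ κ).left).obj P)) := by
  have := K732.AV.geomInt A
  have := K732.AV.geomInt At
  have n1 := Grpsch.MulFin.isFinite_pow A m hm
  have n2 := Grpsch.MulFin.isFinite_pow At m hm
  have n3 := Grpsch.MulFin.flat_pow At m hm
  have := hasRpush ((𝟙 A : A ⟶ A) ^ m).left
  have := hasRpush (pullback.fst A.hom At.hom)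
  have := hasLpull (pullback.fst A.hom At.hom)
  have := hasRpush (pullback.snd A.hom At.hom)
  have := hasRpush κ.left
  have := hasLpull (pullback.fst At.hom A.hom)
  have := hasRpush (pullback.snd At.hom A.hom)
  have := hasLpull ((𝟙 A)⁻¹).left
  have : DCoh.HasRpush (X := Spec (CommRingCat.of k)) η[A].left := hasRpush _
  have : DCoh.HasRpush η[A].left := hasRpush _
  have : IsAffineHom (X := Spec (CommRingCat.of k)) η[A].left := isAffineHom_unit A
  have : DCoh.HasRpush (X := Spec (CommRingCat.of k)) η[At].left := hasRpush _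
  have : DCoh.HasRpush η[At].left := hasRpush _
  have : IsAffineHom (X := Spec (CommRingCat.of k)) η[At].left := isAffineHom_unit At
  have sqK : IsPullback (toUnit K).left κ.left η[At].left ((𝟙 At : At ⟶ At) ^ m).left :=
    sq.flip.map (Over.forget _)
  have f1 : IsFinite (toUnit K).left := MorphismProperty.of_isPullback sqK.flip n2
  have f2 : IsAffineHom κ.left := MorphismProperty.of_isPullback sqK (isAffineHom_unit At)
  have f3 : IsFinite K.hom := by
    have h : (toUnit K).left ≫ (𝟙_ (Over (Spec (CommRingCat.of k)))).hom = K.hom := Over.w _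
    rw [← h]
    have : IsFinite (𝟙_ (Over (Spec (CommRingCat.of k)))).hom :=
      inferInstanceAs (IsFinite (𝟙 (Spec (CommRingCat.of k))))
    infer_instance
  have f4 : IsAffineHom (fst A K).left := inferInstanceAs (IsAffineHom (pullback.fst A.hom K.hom))
  obtain ⟨e⟩ := nonempty_poinc hφ hP hPξ m
  have sq1 : IsPullback (pullback.fst A.hom At.hom) (AbDual.bcMap ((𝟙 A : A ⟶ A) ^ m) At) ((𝟙 A : A ⟶ A) ^ m).left
      (pullback.fst A.hom At.hom) := K232.FMPush.isPullback_bcMap _ _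
  have sq2 : IsPullback (PicF.XTmap A.hom ((𝟙 At : At ⟶ At) ^ m)) (pullback.snd A.hom At.hom)
      (pullback.snd A.hom At.hom) ((𝟙 At : At ⟶ At) ^ m).left := K732.PicZero.isPullback_XTmap _
  have w1 : AbDual.bcMap ((𝟙 A : A ⟶ A) ^ m) At ≫ pullback.snd A.hom At.hom = pullback.snd A.hom At.hom :=
    (pullback.lift_snd _ _ _).trans (Category.comp_id _)
  have w2 : PicF.XTmap A.hom ((𝟙 At : At ⟶ At) ^ m) ≫ pullback.fst A.hom At.hom = pullback.fst A.hom At.hom :=
    (pullback.lift_fst _ _ _).trans (Category.comp_id _)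
  obtain ⟨t⟩ := T_push (E := Spec (CommRingCat.of k)) sq1 w1 sq2 w2 hP hP e (-(g : ℤ)) h2.rpush sqK
  -- the inverse transform
  have sq3 : IsPullback (snd A K).left (lift (snd A K ≫ κ) (fst A K)).left κ.left (pullback.fst At.hom A.hom) :=
    (sqS A κ).map (Over.forget _)
  have w3 : (lift (snd A K ≫ κ) (fst A K)).left ≫ pullback.snd At.hom A.hom = (fst A K).left :=
    congrArg CommaMorphism.left (show lift (snd A K ≫ κ) (fst A K) ≫ snd At A = fst A K by simp)
  obtain ⟨s⟩ := S_push (P' := swp P) (inv_swp hP) sq3 w3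
  have w4 : (lift (snd A K ≫ κ) (fst A K)).left ≫ (pullbackSymmetry At.hom A.hom).hom = (A ◁ κ).left := by
    apply pullback.hom_ext
    · rw [Category.assoc, pullbackSymmetry_hom_comp_fst]
      refine w3.trans ?_
      exact congrArg CommaMorphism.left (show fst A K = (A ◁ κ) ≫ fst A At by simp)
    · rw [Category.assoc, pullbackSymmetry_hom_comp_snd]
      exact congrArg CommaMorphism.left
        (show lift (snd A K ≫ κ) (fst A K) ≫ fst At A = (A ◁ κ) ≫ snd A At by simp)
  let e4 : (Scheme.Modules.pullback (lift (snd A K ≫ κ) (fst A K)).left).obj (swp P) ≅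
      (Scheme.Modules.pullback (A ◁ κ).left).obj P :=
    (Scheme.Modules.pullbackComp _ _).app P ≪≫ (Scheme.Modules.pullbackCongr w4).app P
  -- inversion
  have hq : qc A.left ((DCoh.Rpush ((𝟙 A : A ⟶ A) ^ m).left).obj (DCoh.inD A.left (Coh.structureModule A.left))) :=
    qc_rpush _ _ (qcO A.left)
  obtain ⟨mu⟩ := (mukai hφ hP hPξ (-(g : ℤ)) h1.rpush).app hq
  have hc : ((𝟙 A)⁻¹).left ≫ ((𝟙 A : A ⟶ A) ^ m).left = ((𝟙 A : A ⟶ A) ^ m).left ≫ ((𝟙 A)⁻¹).left := by
    rw [← Over.comp_left, ← Over.comp_left, MonObj.comp_pow, Category.comp_id, GrpObj.comp_inv, Category.comp_id,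
      inv_pow]
  obtain ⟨l⟩ := lpull_rpush ((𝟙 A : A ⟶ A) ^ m).left ((𝟙 A)⁻¹).left inv_comp_inv hc
  obtain ⟨q⟩ := Dual.H360.ProjAff.nonempty_rpushInD ((𝟙 A : A ⟶ A) ^ m).left (Coh.structureModule A.left)
    (PerfA.QCohSerre.isQCoh_unit _)
  obtain ⟨sh⟩ := fm_shift (pullback.fst At.hom A.hom) (pullback.snd At.hom A.hom) (DCoh.inD _ (swp P))
    ((DCoh.Rpush κ.left).obj (DCoh.inD K.left (Coh.structureModule K.left))) (-(g : ℤ))
  obtain ⟨r⟩ := nonempty_of_shift (-(g : ℤ)) ⟨(shiftFunctor _ (-(g : ℤ))).mapIso (q.symm ≪≫ l.symm) ≪≫ mu.symm ≪≫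
    (fm (pullback.fst At.hom A.hom) (pullback.snd At.hom A.hom) (DCoh.inD _ (swp P))).mapIso t ≪≫ sh ≪≫
    (shiftFunctor _ (-(g : ℤ))).mapIso s⟩
  exact ⟨r ≪≫ (Scheme.Modules.pushforward (fst A K).left).mapIso e4⟩

end K578.MulPush
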