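import Groth.Agent.AbVar.K578.FamRank
import Groth.Agent.AbVar.K578.MulPush
import Groth.Agent.AbVar.K578.MulKer
import Groth.Agent.AbVar.K526.Inst
import Groth.Agent.AbVar.K526.Trans
import Groth.Agent.AbVar.K527.ProjAff
import Groth.Agent.AbVar.K511.PC1
import Groth.Agent.AbVar.K511.PC2
import Groth.Agent.VarietyB.HHPush

/-!
# Generic cohomology ranks and multiplication by `m`

`k` algebraically closed, `A` an abelian variety of dimension `g`, `c` the class of a coherent module on `A`: the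
generic value of `h^i([m]^* c ⊗ P_α)` is `m^(2g)` times that of `h^i(c ⊗ P_α)`.
-/

set_option autoImplicit false
universe u
open CategoryTheory CategoryTheory.Limits MonoidalCategory CartesianMonoidalCategory AlgebraicGeometry
open scoped MonObj
open Groth.Agent Groth.Agent.Fga.PicMon Groth.Agent.Fga Groth.Agent.Pic13.H11.Cls Groth.Agent.Pic13.H11.NumU
  Groth.Agent.Grpsch.PicGrp Groth.Agent.Grpsch.Cube

namespace K578.HgenMul

open K526.Cut K526.PullM K518.Phi K526.Core K526.Fam K526 K578.FamRank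
open Fga.RigGrp K732.PicZero K732.Dual K732.Prim K527.Bridge

section proj

variable {k : Type u} [Field k] {X Y : Scheme.{u}} [X.Over (Spec (CommRingCat.of k))] [Y.Over (Spec (CommRingCat.of k))]

/-- Cohomology and the projection formula for affine morphisms. -/
theorem h_proj (f : X ⟶ Y) (hf : f ≫ (Y ↘ Spec (CommRingCat.of k)) = X ↘ Spec (CommRingCat.of k)) [IsAffineHom f]
    {E : Y.Modules} {G : X.Modules} (hE : Coh.IsQCoh E) (hG : Coh.IsQCoh G) (i : ℕ) :
    h k i (mc E * mc ((Scheme.Modules.pushforward f).obj G)) = h k i (pm f (mc E) * mc G) := by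
  rw [pm_mc, ← mc_tensor, ← mc_tensor, mc_eq (K527.ProjAff.projIso f E G hE hG), h_mc, h_mc]
  exact VarietyB.HHPush.finrank_HH_push f k hf _
    (Ega1.TensorRestrict.isQCoh_tensorMod _ _ (VarietyB.PullSec.isQCoh_pullback f E hE) hG) i

/-- Two affine morphisms with isomorphic direct images. -/
theorem h_proj_eq {X' : Scheme.{u}} [X'.Over (Spec (CommRingCat.of k))] (f : X ⟶ Y) (f' : X' ⟶ Y)
    (hf : f ≫ (Y ↘ Spec (CommRingCat.of k)) = X ↘ Spec (CommRingCat.of k))
    (hf' : f' ≫ (Y ↘ Spec (CommRingCat.of k)) = X' ↘ Spec (CommRingCat.of k)) [IsAffineHom f] [IsAffineHom f']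
    {G : X.Modules} {G' : X'.Modules} (hG : Coh.IsQCoh G) (hG' : Coh.IsQCoh G')
    (e : (Scheme.Modules.pushforward f).obj G ≅ (Scheme.Modules.pushforward f').obj G') {c : MC Y} (hc : Co c) (i : ℕ) :
    h k i (pm f c * mc G) = h k i (pm f' c * mc G') := by
  induction c using MC.ind with | h E => ?_
  have hE : Coh.IsQCoh E := hc.1
  rw [← h_proj f hf hE hG, ← h_proj f' hf' hE hG', mc_eq e]

end proj

variable {k : Type u} [Field k] {A At : Over (Spec (CommRingCat.of k))} [GrpObj A] [IsProper A.hom]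
  [Smooth A.hom] [GeometricallyConnected A.hom] [GrpObj At] [IsProper At.hom] [Smooth At.hom]
  [GeometricallyConnected At.hom]
variable {φ : ∀ T : Over (Spec (CommRingCat.of k)), PicF.Cl (PicF.XT A.hom T) → (T ⟶ At)}
  (hφ : AbDual.IsDualAV Scheme.fppfPrecoverage A At φ)

omit [GrpObj A] [Smooth A.hom] [GeometricallyConnected A.hom] [GrpObj At] [IsProper At.hom] [Smooth At.hom]
  [GeometricallyConnected At.hom] in
/-- The cohomology over a rational point. -/
theorem h_pt (α : Pt At) {c : MC (A ⊗ At).left} (hc : Co c) (i : ℕ) :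
    ∃ u : spB k k ⟶ At, Set.range u.left ⊆ {α.left (IsLocalRing.closedPoint k)} ∧
      h k i (pm (A ◁ u).left c) = h k i (pm (sl A α).left c) := by
  have hid : (spB k k).hom = 𝟙 _ := by
    change Spec.map (CommRingCat.ofHom (algebraMap k k)) = _
    exact Spec.map_id _
  have hu : (toUnit (spB k k)).left ≫ (𝟙_ (Over (Spec (CommRingCat.of k)))).hom = (spB k k).hom := Over.w _
  have i1 : IsIso (toUnit (spB k k)).left := by
    have h : IsIso ((toUnit (spB k k)).left ≫ (𝟙_ (Over (Spec (CommRingCat.of k)))).hom) := by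
      rw [hu, hid]
      infer_instance
    have h' : IsIso (𝟙_ (Over (Spec (CommRingCat.of k)))).hom := inferInstanceAs (IsIso (𝟙 (Spec (CommRingCat.of k))))
    exact IsIso.of_isIso_comp_right _ (𝟙_ (Over (Spec (CommRingCat.of k)))).hom
  have i2 : IsIso (toUnit (spB k k)) := by
    have : IsIso ((Over.forget _).map (toUnit (spB k k))) := i1
    exact isIso_of_reflects_iso (toUnit (spB k k)) (Over.forget _)
  refine ⟨toUnit (spB k k) ≫ α, ?_, ?_⟩
  · rintro _ ⟨z, rfl⟩
    rw [Over.comp_left]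
    exact congrArg α.left (Subsingleton.elim (α := PrimeSpectrum k) _ _)
  · let s : A ⟶ A ⊗ spB k k := lift (𝟙 A) (toUnit A ≫ inv (toUnit (spB k k)))
    have hs : s ≫ (A ◁ (toUnit (spB k k) ≫ α)) = sl A α := by
      apply CartesianMonoidalCategory.hom_ext <;> simp [s]
    have h1 : s ≫ fst A (spB k k) = 𝟙 A := lift_fst _ _
    have h2 : fst A (spB k k) ≫ s = 𝟙 _ := by
      apply CartesianMonoidalCategory.hom_ext
      · simp [s]
      · exact (cancel_mono (toUnit (spB k k))).1 (toUnit_unique _ _)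
    have i3 : IsIso s := ⟨_, h1, h2⟩
    have i4 : IsIso s.left := inferInstanceAs (IsIso ((Over.forget _).map s))
    have i5 : IsProper (spB k k).hom := by rw [hid]; infer_instance
    have i6 : IsProper (A ⊗ spB k k).hom := by
      have h : (snd A (spB k k)).left ≫ (spB k k).hom = (A ⊗ spB k k).hom := Over.w _
      rw [← h]
      have : IsProper (snd A (spB k k)).left := inferInstanceAs (IsProper (pullback.snd A.hom (spB k k).hom))
      infer_instance
    have h3 := K526.Prod.h_pm_iso (k := k) s.left (Over.w s) (co_pm (A ◁ (toUnit (spB k k) ≫ α)).left hc) i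
    rw [← h3, ← K526.Prod.pm_left_comp, hs]

section Poinc

variable {ξ : Pic (PicF.XT A.hom At)} (h1 : ξ ∈ pz A.hom At) (h2 : ξ ∈ rg A At) (h3 : cm φ ξ = 𝟙 At)

include hφ h1 h2 h3

omit [IsProper At.hom] [Smooth At.hom] [GeometricallyConnected At.hom] in
theorem Pcl_pow (β : Pt At) (m : ℕ) : Pcl ξ (β ^ m) = Pcl ξ β ^ m := by
  have := K732.AV.geomInt A
  induction m with
  | zero => rw [pow_zero, pow_zero, Pcl_one hφ h1 h2 h3]
  | succ m ih => rw [pow_succ, pow_succ, Pcl_mul hφ h1 h2 h3, ih]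

omit [IsProper At.hom] [Smooth At.hom] [GeometricallyConnected At.hom] in
theorem pl_wl {K : Over (Spec (CommRingCat.of k))} (κ : K ⟶ At) (β : Pt At) :
    pl (A ◁ ((toUnit K ≫ β) * κ)) (show Pic (A ⊗ At).left from ξ) =
      pl (fst A K) (Pcl ξ β) * pl (A ◁ κ) (show Pic (A ⊗ At).left from ξ) := by
  have := K732.AV.geomInt A
  have e1 : ∀ u : K ⟶ At, pl (A ◁ u) (show Pic (A ⊗ At).left from ξ) = ev (fst A K) (snd A K ≫ u) ξ := by
    intro u
    have e0 : A ◁ u = lift (fst A K) (snd A K ≫ u) := by ext <;> simp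
    rw [e0]
    rfl
  rw [e1, e1, MonObj.comp_mul, K512.PoincId.ev_mul_right hφ h1 h2 h3]
  congr 1
  have e2 := pull_ev (fst A K) (𝟙 A) (toUnit A ≫ β) ξ
  rw [Category.comp_id, ← Category.assoc, toUnit_unique (fst A K ≫ toUnit A) (snd A K ≫ toUnit K),
    Category.assoc] at e2
  exact e2.symm

end Poinc

variable {P : (pullback A.hom At.hom).Modules} (hP : PicF.IsInvertible P)
  (hPξ : AbDual.IsPoincareCl A At φ (PicF.cl P))

/-- The Poincaré class. -/
noncomputable abbrev px {P : (pullback A.hom At.hom).Modules} (hP : PicF.IsInvertible P) : Pic (PicF.XT A.hom At) := mk P hP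

include hφ hPξ in
/-- The twisted cohomology of `[m]^* c` as the cohomology of a family over a translate of the kernel. -/
theorem h_mul [IsAlgClosed k] {g : ℕ} (hg : topologicalKrullDim A.left = g) {m : ℕ} (hm : 1 ≤ m) {B : Type u}
    [CommRing B] [Algebra k B] [Module.Finite k B]
    {κ : spB k B ⟶ At} (sq : IsPullback κ (toUnit _) ((𝟙 At : At ⟶ At) ^ m) η[At]) {c : MC A.left} (hc : Co c)
    (β : Pt At) (i : ℕ) :
    h k i (toU (Pcl (px hP) (β ^ m)) • pm (nn A m).left c) =
      h k i (pm (A ◁ ((toUnit _ ≫ β) * κ)).left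
        (toU (show Pic (A ⊗ At).left from px hP) • pm (fst A At).left c)) := by
  have := K732.AV.geomInt A
  have := K732.AV.geomInt At
  obtain ⟨x1, x2, x3⟩ := K527.Rows.poinc hP hPξ
  have n1 := Grpsch.MulFin.isFinite_pow A m hm
  obtain ⟨e⟩ := MulPush.nonempty_mul hφ hP hPξ m hm g
    ⟨K511.PC1.isZero hφ x1 x2 x3 hP rfl g hg, K511.PC1.nonempty_iso hφ x1 x2 x3 hP rfl g hg⟩
    ⟨K511.PC2.isZero hφ x1 x2 x3 hP rfl g hg, K511.PC2.nonempty_iso hφ x1 x2 x3 hP rfl g hg⟩ sq
  have f3 : IsFinite (spB k B).hom := by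
    change IsFinite (Spec.map (CommRingCat.ofHom (algebraMap k B)))
    rw [IsFinite.SpecMap_iff]
    exact RingHom.finite_algebraMap.mpr inferInstance
  have f4 : IsAffineHom (fst A (spB k B)).left := inferInstanceAs (IsAffineHom (pullback.fst A.hom (spB k B).hom))
  have e1 : pl (nn A m) (Pcl (px hP) β) = Pcl (px hP) (β ^ m) := by
    rw [Inst.pl_nn_inv (Pcl_mem hφ x1 x2 x3 β), Pcl_pow hφ x1 x2 x3]
  have hQ : PicF.IsInvertible ((Scheme.Modules.pullback (A ◁ κ).left).obj P) := Fdesc.LocGen.isInvertible_pullback _ hP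
  have key := h_proj_eq (k := k) (nn A m).left (fst A (spB k B)).left (Over.w _) (Over.w _)
    (PerfA.QCohSerre.isQCoh_unit A.left) (PerfB.TensInv.isQCoh_of_isInvertible hQ) e
    (c := toU (Pcl (px hP) β) • c) (hc.smul _) i
  have e2 : mc (Coh.structureModule A.left) = 1 := mc_one
  rw [e2, mul_one, pm_toU_smul, e1] at key
  rw [key, pm_toU_smul, pm_toU_smul, ← K526.Prod.pm_left_comp, whiskerLeft_fst, pl_wl hφ x1 x2 x3, map_mul, mul_smul,
    smul_def, smul_def, smul_def]
  have e3 : mc ((Scheme.Modules.pullback (A ◁ κ).left).obj P) =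
      ((toU (pl (A ◁ κ) (show Pic (A ⊗ At).left from px hP)) : (MC (A ⊗ spB k B).left)ˣ) : MC (A ⊗ spB k B).left) := by
    have e4 : pl (A ◁ κ) (show Pic (A ⊗ At).left from px hP) = mk _ hQ := pull_mk _ _
    rw [e4, toU_mk_val]
  rw [e3]
  congr 1
  ac_rfl

section Main

variable [IsAlgClosed k]

omit [GrpObj At] [Smooth At.hom] [GeometricallyConnected At.hom] in
/-- A rational point is determined by its image. -/
theorem exists_pt_mem {U : Set At.left} (hU : IsOpen U) (hne : U.Nonempty) : ∃ α : Pt At, α.left (IsLocalRing.closedPoint k) ∈ U := by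
  obtain ⟨a, haU, w, -, z, hz⟩ := (dense_pts (A := At)).inter_open_nonempty U hU hne
  refine ⟨w, ?_⟩
  have : z = IsLocalRing.closedPoint k := Subsingleton.elim (α := PrimeSpectrum k) _ _
  rwa [← this, hz]

omit [GrpObj A] [IsProper A.hom] [Smooth A.hom] [GeometricallyConnected A.hom] [GrpObj At] [IsProper At.hom]
  [Smooth At.hom] [GeometricallyConnected At.hom] [IsAlgClosed k] in
theorem toU_Pcl (α : Pt At) : Units.map (pm (sl A α).left) (toU (show Pic (A ⊗ At).left from px hP)) =
    toU (Pcl (px hP) α) := K526.Prod.um_toU _ _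

include hφ hP hPξ

omit [Smooth At.hom] in
/-- The generic value is attained on a non-empty open set. -/
theorem exists_open {c : MC A.left} (hc : Co c) (i : ℕ) : ∃ W : Set At.left, IsOpen W ∧ W.Nonempty ∧
    ∀ α : Pt At, α.left (IsLocalRing.closedPoint k) ∈ W → h k i (toU (Pcl (px hP) α) • c) = hg k (P0 A) i c := by
  have := K732.AV.geomInt A
  obtain ⟨x1, x2, x3⟩ := K527.Rows.poinc hP hPξ
  obtain ⟨L, hL, -⟩ := Grpsch.MulFin.exists_symm_ample A
  obtain ⟨u, ⟨κ, hκ, rfl⟩, hu⟩ := exists_hg k (P0 A) i c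
  obtain ⟨α₀, hα₀⟩ := exists_Pcl hφ x1 x2 x3 (ℓ := mk L hL.1) (fun κ hκ => by
    obtain ⟨y, hy⟩ := Inst.surj_ample hL 1 le_rfl κ hκ
    exact ⟨y, by rwa [pow_one] at hy⟩) hκ
  obtain ⟨G, he, hG, hf⟩ := exists_G (toU (show Pic (A ⊗ At).left from px hP)) hc
  refine ⟨_, isOpen_betti hG hf i (hg k (P0 A) i c + 1), ⟨α₀.left (IsLocalRing.closedPoint k), ?_⟩, fun α hα => ?_⟩
  · change PerfAux.betti _ _ _ _ < _
    rw [betti_v _ hG he, toU_Pcl hP, hα₀, hu]
    exact Nat.lt_succ_self _
  · change PerfAux.betti _ _ _ _ < _ at hα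
    rw [betti_v _ hG he, toU_Pcl hP] at hα
    exact le_antisymm (Nat.lt_succ_iff.mp hα) (hg_le k (P0 A) i c (toU_mem_P0 (Pcl_mem hφ x1 x2 x3 α)))

/-- **Generic cohomology ranks and multiplication by `m`.** -/
theorem hg_mul {g : ℕ} (hg' : topologicalKrullDim A.left = g) {m : ℕ} (hm : 1 ≤ m) {c : MC A.left} (hc : Co c) (i : ℕ) :
    hg k (P0 A) i (pm (nn A m).left c) = m ^ (2 * g) * hg k (P0 A) i c := by
  have := K732.AV.geomInt A
  have := K732.AV.geomInt At
  obtain ⟨x1, x2, x3⟩ := K527.Rows.poinc hP hPξ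
  have hd : topologicalKrullDim At.left = g := K511.DimEq.dim_eq hφ x1 x2 x3 hP rfl g hg'
  obtain ⟨B, i1, i2, i3, κ, sq, hB⟩ := MulKer.exists_ker At g hd m hm
  obtain ⟨G, he, hG, hf⟩ := exists_G (toU (show Pic (A ⊗ At).left from px hP)) hc
  obtain ⟨U, r, hU, hr⟩ := exists_famRank hG hf i
  obtain ⟨W, hW, hWne, hWα⟩ := exists_open hφ hP hPξ hc i
  obtain ⟨W', hW', hWne', hWα'⟩ := exists_open hφ hP hPξ (co_pm (nn A m).left hc) i
  have hint : IsIntegral At.left := inferInstance
  have hgen : ∀ {V : Set At.left}, IsOpen V → V.Nonempty → genericPoint At.left ∈ V := fun hV hne =>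
    (genericPoint_spec At.left).mem_open_set_iff hV |>.mpr (by simpa using hne)
  -- the generic rank
  have hrk : r = hg k (P0 A) i c := by
    obtain ⟨α, hα⟩ := exists_pt_mem (U := (U : Set At.left) ∩ W) (U.isOpen.inter hW)
      ⟨_, hgen U.isOpen hU, hgen hW hWne⟩
    obtain ⟨u, hu, hh⟩ := h_pt α (c := mc G) hG i
    have h1 := hr k u (hu.trans (Set.singleton_subset_iff.mpr hα.1))
    rw [hh, Module.finrank_self, mul_one, he, pm_smul, toU_Pcl hP, pm_sl_fst, hWα α hα.2] at h1
    exact h1.symm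
  -- a point in general position
  have hmul : Surjective (nn At m).left := Grpsch.MulFin.surjective_pow At m hm
  have hart : IsArtinianRing B := IsArtinianRing.of_finite k B
  have hfinB : Finite (spB k B).left := inferInstanceAs (Finite (PrimeSpectrum B))
  have hdisc : DiscreteTopology (spB k B).left := inferInstanceAs (DiscreteTopology (PrimeSpectrum B))
  have hlft : LocallyOfFiniteType (spB k B).hom := by
    have : IsFinite (spB k B).hom := by
      change IsFinite (Spec.map (CommRingCat.ofHom (algebraMap k B)))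
      rw [IsFinite.SpecMap_iff]
      exact RingHom.finite_algebraMap.mpr inferInstance
    infer_instance
  choose x hx using fun z : (spB k B).left => exists_pt (A := spB k B) z (isClosed_discrete _)
  have hV : IsOpen ((nn At m).left ⁻¹' W' ∩ ⋂ z, (tr (x z ≫ κ)).left ⁻¹' (U : Set At.left)) :=
    (hW'.preimage (nn At m).left.continuous).inter
      (isOpen_iInter_of_finite fun z => U.isOpen.preimage (tr (x z ≫ κ)).left.continuous)
  obtain ⟨β, hβ⟩ := exists_pt_mem hV ⟨genericPoint At.left, hgen (hW'.preimage (nn At m).left.continuous)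
    (hWne'.preimage hmul.surj), Set.mem_iInter.mpr fun z =>
      hgen (U.isOpen.preimage (tr (x z ≫ κ)).left.continuous) (hU.preimage (by
        have : IsIso (tr (x z ≫ κ)) := isIso_tr _
        have : IsIso (tr (x z ≫ κ)).left := inferInstanceAs (IsIso ((Over.forget _).map (tr (x z ≫ κ))))
        exact (Scheme.homeoOfIso (asIso (tr (x z ≫ κ)).left)).surjective))⟩
  have hβ1 : (β ^ m).left (IsLocalRing.closedPoint k) ∈ W' := by
    have h1 : β ≫ nn At m = β ^ m := by rw [nn, MonObj.comp_pow, Category.comp_id]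
    rw [← h1]
    exact hβ.1
  have hβ2 : Set.range ((toUnit (spB k B) ≫ β) * κ).left ⊆ U := by
    rintro _ ⟨z, rfl⟩
    have h1 : x z ≫ ((toUnit (spB k B) ≫ β) * κ) = β ≫ tr (x z ≫ κ) := by
      rw [MonObj.comp_mul, tr, MonObj.comp_mul, Category.comp_id, ← Category.assoc, ← Category.assoc,
        toUnit_unique (x z ≫ toUnit _) (𝟙 _), toUnit_unique (β ≫ toUnit _) (𝟙 _), Category.id_comp, Category.id_comp]
    have h2 := Set.mem_iInter.mp hβ.2 z
    have h3 : ((toUnit (spB k B) ≫ β) * κ).left z = (β ≫ tr (x z ≫ κ)).left (IsLocalRing.closedPoint k) := by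
      rw [← h1, Over.comp_left]
      exact congrArg _ (hx z).symm
    rw [h3]
    exact h2
  rw [← hWα' (β ^ m) hβ1, h_mul hφ hP hPξ hg' hm sq hc β i, ← he, hr B _ hβ2, hB, hrk, mul_comm]

end Main

end K578.HgenMul
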