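import Groth.Agent.Ega3A.TFunBasic
import Groth.Agent.Ega3A.DRank
import Mathlib.RingTheory.Localization.Free
import Mathlib.LinearAlgebra.TensorProduct.Tower
import Mathlib.LinearAlgebra.TensorProduct.Pi

/-!
# Generic ranks of the homology of a complex with finite base changes

`R` a Noetherian domain over a field `k`, `P` a complex of finite flat `R`-modules: there are `f ≠ 0` and `r` such that
`dim_k H_p(P ⊗_R B) = r · dim_k B` for all finite `k`-algebras `B` over `R` in which `f` is invertible.
-/

set_option autoImplicit false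
universe u

open CategoryTheory CategoryTheory.Limits TensorProduct

namespace K578.PackFin

open Groth.Agent Groth.Agent.Ega3A.TFunBasic

section Away

variable {R : Type u} [CommRing R]

theorem nonempty_away {f : R} {N : Type u} [AddCommGroup N] [Module R N] {a : ℕ}
    (e : LocalizedModule (.powers f) N ≃ₗ[Localization (.powers f)] (Fin a → Localization (.powers f)))
    (B : Type u) [CommRing B] [Algebra R B] (hf : IsUnit (algebraMap R B f)) :
    Nonempty (N ⊗[R] B ≃ₗ[R] (Fin a → B)) := by
  let S := Localization (Submonoid.powers f)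
  have : IsLocalization.Away f S := inferInstanceAs (IsLocalization (.powers f) S)
  let g : S →+* B := IsLocalization.Away.lift f hf
  let _ : Algebra S B := g.toAlgebra
  have hg : IsScalarTower R S B := IsScalarTower.of_algebraMap_eq fun r => (IsLocalization.Away.lift_eq f hf r).symm
  have hbc : IsBaseChange S (LocalizedModule.mkLinearMap (.powers f) N) :=
    (isLocalizedModule_iff_isBaseChange (.powers f) S (LocalizedModule.mkLinearMap (.powers f) N)).mp inferInstance
  let e1 : N ⊗[R] B ≃ₗ[R] B ⊗[R] N := TensorProduct.comm R N B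
  let e2 : B ⊗[S] (S ⊗[R] N) ≃ₗ[S] B ⊗[R] N := TensorProduct.AlgebraTensorModule.cancelBaseChange R S S B N
  let e3 : B ⊗[S] (S ⊗[R] N) ≃ₗ[S] B ⊗[S] (Fin a → S) :=
    TensorProduct.congr (LinearEquiv.refl S B) (hbc.equiv.trans e)
  let e4 : B ⊗[S] (Fin a → S) ≃ₗ[S] (Fin a → B) := TensorProduct.piScalarRight S S B (Fin a)
  exact ⟨e1.trans (((e2.symm.trans e3).trans e4).restrictScalars R)⟩

/-- Generic freeness of a finite module over a Noetherian domain. -/
theorem exists_away [IsNoetherianRing R] [IsDomain R] (N : Type u) [AddCommGroup N] [Module R N] [Module.Finite R N] :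
    ∃ f : R, f ≠ 0 ∧ ∃ a : ℕ, ∀ (B : Type u) [CommRing B] [Algebra R B], IsUnit (algebraMap R B f) →
      Nonempty (N ⊗[R] B ≃ₗ[R] (Fin a → B)) := by
  have : Module.FinitePresentation R N := Module.finitePresentation_of_finite R N
  let K := FractionRing R
  obtain ⟨f, hf, h1, -⟩ := Module.FinitePresentation.exists_free_localizedModule_powers (nonZeroDivisors R)
    (LocalizedModule.mkLinearMap (nonZeroDivisors R) N) K
  have hfin : Module.Finite (Localization (.powers f)) (LocalizedModule (.powers f) N) :=
    Module.Finite.of_isLocalizedModule (.powers f) (LocalizedModule.mkLinearMap (.powers f) N)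
  have hne : Nontrivial (Localization (.powers f)) :=
    (IsLocalization.isDomain_of_le_nonZeroDivisors (R := R) (M := .powers f) (Localization (.powers f))
      (Submonoid.powers_le.mpr hf)).toNontrivial
  refine ⟨f, nonZeroDivisors.ne_zero hf, _, fun B _ _ hB => nonempty_away
    (Module.finBasis (Localization (.powers f)) (LocalizedModule (.powers f) N)).equivFun B hB⟩

end Away

section Dim

variable (k : Type u) [Field k] {R : Type u} [CommRing R] [Algebra k R]

/-- The dimension over `k` of an `R`-module. -/
noncomputable def dk (M : Type u) [AddCommGroup M] [Module R M] : ℕ :=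
  @Module.finrank k M _ _ (Module.compHom M (algebraMap k R))

/-- Finite dimension over `k` of an `R`-module. -/
def Fk (M : Type u) [AddCommGroup M] [Module R M] : Prop :=
  @Module.Finite k M _ _ (Module.compHom M (algebraMap k R))

theorem dk_congr {M N : Type u} [AddCommGroup M] [Module R M] [AddCommGroup N] [Module R N] (e : M ≃ₗ[R] N) :
    dk k (R := R) M = dk k (R := R) N := by
  let _ := Module.compHom M (algebraMap k R)
  let _ := Module.compHom N (algebraMap k R)
  let e' : M ≃ₗ[k] N := { e with map_smul' := fun c x => e.map_smul (algebraMap k R c) x }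
  exact e'.finrank_eq

theorem Fk.congr {M N : Type u} [AddCommGroup M] [Module R M] [AddCommGroup N] [Module R N] (e : M ≃ₗ[R] N)
    (h : Fk k (R := R) M) : Fk k (R := R) N := by
  let _ := Module.compHom M (algebraMap k R)
  let _ := Module.compHom N (algebraMap k R)
  let e' : M ≃ₗ[k] N := { e with map_smul' := fun c x => e.map_smul (algebraMap k R c) x }
  have : Module.Finite k M := h
  exact Module.Finite.equiv e'

theorem dk_pi (B : Type u) [CommRing B] [Algebra R B] [Algebra k B] [IsScalarTower k R B] [Module.Finite k B] (a : ℕ) :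
    dk k (R := R) (Fin a → B) = a * Module.finrank k B ∧ Fk k (R := R) (Fin a → B) := by
  have h : (Module.compHom (Fin a → B) (algebraMap k R) : Module k (Fin a → B)) = Pi.module _ _ _ := by
    refine Module.ext ?_
    ext c x i
    change algebraMap k R c • x i = c • x i
    rw [algebraMap_smul]
  unfold dk Fk
  rw [h]
  refine ⟨?_, inferInstance⟩
  rw [Module.finrank_pi_fintype, Finset.sum_const, Finset.card_univ, Fintype.card_fin, smul_eq_mul]

/-- The Euler characteristic of a four-term exact sequence. -/
theorem dk_exact {H Q X Q' : Type u} [AddCommGroup H] [AddCommGroup Q] [AddCommGroup X] [AddCommGroup Q']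
    [Module R H] [Module R Q] [Module R X] [Module R Q'] (i : H →ₗ[R] Q) (d : Q →ₗ[R] X) (q : X →ₗ[R] Q')
    (hi : Function.Injective i) (h1 : LinearMap.range i = LinearMap.ker d)
    (h2 : LinearMap.range d = LinearMap.ker q) (hq : Function.Surjective q)
    (hQ : Fk k (R := R) Q) (hX : Fk k (R := R) X) :
    dk k (R := R) H + dk k (R := R) X = dk k (R := R) Q + dk k (R := R) Q' := by
  let _ := Module.compHom H (algebraMap k R)
  let _ := Module.compHom Q (algebraMap k R)
  let _ := Module.compHom X (algebraMap k R)
  let _ := Module.compHom Q' (algebraMap k R)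
  have fQ : Module.Finite k Q := hQ
  have fX : Module.Finite k X := hX
  let i' : H →ₗ[k] Q := { i with map_smul' := fun c x => i.map_smul (algebraMap k R c) x }
  let d' : Q →ₗ[k] X := { d with map_smul' := fun c x => d.map_smul (algebraMap k R c) x }
  let q' : X →ₗ[k] Q' := { q with map_smul' := fun c x => q.map_smul (algebraMap k R c) x }
  have h1' : LinearMap.range i' = LinearMap.ker d' := by
    ext x
    exact SetLike.ext_iff.mp h1 x
  have h2' : LinearMap.range d' = LinearMap.ker q' := by
    ext x
    exact SetLike.ext_iff.mp h2 x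
  have e1 : Module.finrank k H = Module.finrank k (LinearMap.ker d') := by
    rw [← h1']
    exact (LinearEquiv.ofInjective i' hi).finrank_eq
  have e2 := d'.finrank_range_add_finrank_ker
  have e3 := q'.finrank_range_add_finrank_ker
  have hq' : Function.Surjective q' := hq
  rw [← h2', LinearMap.range_eq_top.2 hq', finrank_top] at e3
  change Module.finrank k H + Module.finrank k X = Module.finrank k Q + Module.finrank k Q'
  omega

end Dim

section Main

variable {R : Type u} [CommRing R] [IsNoetherianRing R] [IsDomain R]

/-- **Generic rank.** -/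
theorem exists_rank (P : ChainComplex (ModuleCat.{u} R) ℤ) (hP : ∀ i, Module.Finite R (P.X i)) (p : ℤ) :
    ∃ (f : R) (r : ℕ), f ≠ 0 ∧ ∀ (k : Type u) [Field k] [Algebra k R] (B : Type u) [CommRing B] [Algebra R B]
      [Algebra k B] [IsScalarTower k R B] [Module.Finite k B], IsUnit (algebraMap R B f) →
      dk k (R := R) ((CohIII.TFun P p).obj (ModuleCat.of R B)) = r * Module.finrank k B := by
  have hfin : ∀ i, Module.Finite R (P.opcycles i) := fun i =>
    have := hP i
    Ega3A.DRank.finite_opcycles P i
  obtain ⟨f1, h1, a, ha⟩ := exists_away (R := R) (P.opcycles p)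
  obtain ⟨f2, h2, b, hb⟩ := exists_away (R := R) (P.X (p - 1))
  obtain ⟨f3, h3, c, hc⟩ := exists_away (R := R) (P.opcycles (p - 1))
  refine ⟨f1 * f2 * f3, a + c - b, mul_ne_zero (mul_ne_zero h1 h2) h3, fun k _ _ B _ _ _ _ _ hB => ?_⟩
  rw [map_mul, map_mul, IsUnit.mul_iff, IsUnit.mul_iff] at hB
  obtain ⟨ea⟩ := ha B hB.1.1
  obtain ⟨eb⟩ := hb B hB.1.2
  obtain ⟨ec⟩ := hc B hB.2
  have hsurj : Function.Surjective (P.pOpcycles (p - 1)).hom := (ModuleCat.epi_iff_surjective _).1 inferInstance
  have hsurj' : Function.Surjective (P.pOpcycles p).hom := (ModuleCat.epi_iff_surjective _).1 inferInstance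
  have hex : LinearMap.range (P.fromOpcycles p (p - 1)).hom = LinearMap.ker (P.pOpcycles (p - 1)).hom := by
    have e1 : (ShortComplex.mk _ _ (P.d_pOpcycles p (p - 1))).Exact :=
      ShortComplex.exact_of_g_is_cokernel _ (P.opcyclesIsCokernel p (p - 1) (by simp))
    have e2 : LinearMap.range (P.d p (p - 1)).hom = LinearMap.ker (P.pOpcycles (p - 1)).hom :=
      e1.moduleCat_range_eq_ker
    rw [← e2, ← P.p_fromOpcycles, ModuleCat.hom_comp, LinearMap.range_comp_of_range_eq_top]
    rw [LinearMap.range_eq_top]
    exact hsurj'
  have key := dk_exact k (R := R) (ιTc P p (ModuleCat.of R B)).hom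
    (LinearMap.rTensor B (P.fromOpcycles p (p - 1)).hom) (LinearMap.rTensor B (P.pOpcycles (p - 1)).hom)
    (ιTc_injective P p _) (ιTc_range P p (ModuleCat.of R B) (p - 1) (by simp))
    (by
      have h := rTensor_exact B (f := (P.fromOpcycles p (p - 1)).hom) (g := (P.pOpcycles (p - 1)).hom)
        (LinearMap.exact_iff.2 hex.symm) hsurj
      exact (LinearMap.exact_iff.1 h).symm)
    (LinearMap.rTensor_surjective B hsurj)
    (Fk.congr k ea.symm (dk_pi k B a).2) (Fk.congr k eb.symm (dk_pi k B b).2)
  have ka : dk k (R := R) (P.opcycles p ⊗[R] B) = a * Module.finrank k B :=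
    (dk_congr k ea).trans (dk_pi k B a).1
  have kb : dk k (R := R) (P.X (p - 1) ⊗[R] B) = b * Module.finrank k B :=
    (dk_congr k eb).trans (dk_pi k B b).1
  have kc : dk k (R := R) (P.opcycles (p - 1) ⊗[R] B) = c * Module.finrank k B :=
    (dk_congr k ec).trans (dk_pi k B c).1
  have key' : dk k (R := R) ((CohIII.TFun P p).obj (ModuleCat.of R B)) + b * Module.finrank k B =
      a * Module.finrank k B + c * Module.finrank k B := by
    rw [← ka, ← kb, ← kc]
    exact key
  rw [Nat.sub_mul, add_mul, ← key', Nat.add_sub_cancel]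

end Main

end K578.PackFin
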