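import Groth.Agent.AbVar.K232.FMInv
import Groth.Agent.Dual.H360.ProjAff
import Groth.Agent.PerfA.QCohSerre

/-!
# The direct image of the structure sheaf and the Fourier–Mukai functors, abstract form

* `T_push`: `Φ_B (Rf_* O_A) = Rj_* O_K [n]`, where `j : K ⟶ Bᵗ` is the kernel of `fᵗ`;
* `S_push`: `Φ_{P'} (Rj_* O_K) = p_* (P'|_{K × B})`.
-/

set_option autoImplicit false

universe u

open CategoryTheory CategoryTheory.Limits AlgebraicGeometry MonoidalCategory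

attribute [local instance] HasDerivedCategory.standard

open scoped Groth.Agent.Dcoh.MonCat Groth.Agent.Dcoh.ModD

namespace K578.PushPoinc

open K353.OnSub K353.Calc K353.Conv Groth.Agent Groth.Agent.Dcoh K232.FMInv

theorem qcO (X : Scheme.{u}) : qc X (DCoh.inD X (Coh.structureModule X)) :=
  qc_inD Fdesc.LocGen.isInvertible_structureModule

/-- `O ⊗ - ≅ id`. -/
theorem nonempty_unit_tensor {X : Scheme.{u}} (K : DCoh.D X) :
    Nonempty (DCoh.inD X (Coh.structureModule X) ⊗ K ≅ K) := by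
  obtain ⟨e⟩ := Dual.H492.TensShift.nonempty_shift_unit (X := X) 0
  exact ⟨whiskerRightIso (DualX.unitIso X) K ≪≫ λ_ K⟩

/-- The Fourier–Mukai transform of the structure sheaf. -/
theorem fm_unit {W X Y : Scheme.{u}} (p : W ⟶ X) (q : W ⟶ Y) [DCoh.HasLpull p] [DCoh.HasRpush q] (K : DCoh.D W) :
    Nonempty ((fm p q K).obj (DCoh.inD X (Coh.structureModule X)) ≅ (DCoh.Rpush q).obj K) := by
  obtain ⟨e⟩ := nonempty_unit_tensor K
  exact ⟨(DCoh.Rpush q).mapIso (whiskerRightIso (PerfB.FibreZero.lpullStructure p) K ≪≫ e)⟩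

/-- `Φ_B (Rf_* O_A) = Rj_* O_K [n]`. -/
theorem T_push {A B At Bt WA WB V : Scheme.{u}} {f : A ⟶ B} {ft : Bt ⟶ At} {pB : WB ⟶ B} {qB : WB ⟶ Bt}
    {pA : WA ⟶ A} {qA : WA ⟶ At} {v : V ⟶ A} {w : V ⟶ Bt} {F : V ⟶ WB} {G : V ⟶ WA}
    (sq1 : IsPullback v F f pB) (h1 : F ≫ qB = w) (sq2 : IsPullback G w qA ft) (h2 : G ≫ pA = v)
    [Flat pB] [Flat qA] [QuasiCompact f] [QuasiSeparated f] [QuasiCompact qA] [QuasiSeparated qA]
    {PA : WA.Modules} (hPA : PicF.IsInvertible PA) {PB : WB.Modules} (hPB : PicF.IsInvertible PB)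
    (e : (Scheme.Modules.pullback F).obj PB ≅ (Scheme.Modules.pullback G).obj PA)
    [DCoh.HasRpush f] [DCoh.HasLpull pB] [DCoh.HasRpush qB] [DCoh.HasRpush qA]
    {E K : Scheme.{u}} {e₀ : E ⟶ At} [QuasiCompact e₀] [QuasiSeparated e₀] [DCoh.HasRpush e₀] (n : ℤ)
    (hR : Nonempty ((DCoh.Rpush qA).obj (DCoh.inD WA PA) ≅
      ((DCoh.Rpush e₀).obj (DCoh.inD E (Coh.structureModule E)))⟦n⟧))
    {j : K ⟶ Bt} {a : K ⟶ E} (sqK : IsPullback a j e₀ ft) [Flat ft] [DCoh.HasRpush j] :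
    Nonempty ((fm pB qB (DCoh.inD WB PB)).obj ((DCoh.Rpush f).obj (DCoh.inD A (Coh.structureModule A))) ≅
      ((DCoh.Rpush j).obj (DCoh.inD K (Coh.structureModule K)))⟦n⟧) := by
  have := hasLpull pA
  have := hasLpull ft
  have := hasLpull a
  obtain ⟨i⟩ := (push_main sq1 h1 sq2 h2 hPA hPB e).app (qcO A)
  obtain ⟨i2⟩ := fm_unit pA qA (DCoh.inD WA PA)
  obtain ⟨hR⟩ := hR
  obtain ⟨b2⟩ := (bc (Or.inr inferInstance) sqK).app (qcO E)
  let _ := DerPull.lpullCommShift ft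
  exact ⟨i ≪≫ (DCoh.Lpull ft).mapIso (i2 ≪≫ hR) ≪≫ ((DCoh.Lpull ft).commShiftIso n).app _ ≪≫
    (shiftFunctor _ n).mapIso (b2 ≪≫ (DCoh.Rpush j).mapIso (PerfB.FibreZero.lpullStructure a))⟩

/-- `Φ_{P'} (Rj_* O_K) = p_* (P'|_{K × B})`. -/
theorem S_push {Bt B W' K V' : Scheme.{u}} {p' : W' ⟶ Bt} {q' : W' ⟶ B} {j : K ⟶ Bt} {P' : W'.Modules}
    (hP' : PicF.IsInvertible P') {j' : V' ⟶ W'} {a' : V' ⟶ K} (sq : IsPullback a' j' j p') [Flat p']
    [QuasiCompact j] [QuasiSeparated j] {r : V' ⟶ B} (hr : j' ≫ q' = r) [IsAffineHom r]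
    [DCoh.HasLpull p'] [DCoh.HasRpush q'] [DCoh.HasRpush j] :
    Nonempty ((fm p' q' (DCoh.inD W' P')).obj ((DCoh.Rpush j).obj (DCoh.inD K (Coh.structureModule K))) ≅
      DCoh.inD B ((Scheme.Modules.pushforward r).obj ((Scheme.Modules.pullback j').obj P'))) := by
  have := hasLpull a'
  have := hasRpush j'
  have := hasLpull j'
  have := hasRpush r
  have i1 : QuasiCompact j' := MorphismProperty.of_isPullback sq inferInstance
  have i2 : QuasiSeparated j' := MorphismProperty.of_isPullback sq inferInstance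
  obtain ⟨b⟩ := (bc (Or.inr inferInstance) sq).app (qcO K)
  obtain ⟨pr⟩ := (proj_right j' _ (qc_inD hP')).app (qcO V')
  obtain ⟨u⟩ := nonempty_unit_tensor ((DCoh.Lpull j').obj (DCoh.inD W' P'))
  obtain ⟨l⟩ := nonempty_lpull j' hP'
  obtain ⟨c⟩ := rpush_comp j' q' r hr
  obtain ⟨d⟩ := Dual.H360.ProjAff.nonempty_rpushInD r ((Scheme.Modules.pullback j').obj P')
    (PerfB.TensInv.isQCoh_of_isInvertible (Fdesc.LocGen.isInvertible_pullback _ hP'))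
  let b' : (DCoh.Lpull p').obj ((DCoh.Rpush j).obj (DCoh.inD K (Coh.structureModule K))) ≅
      (DCoh.Rpush j').obj (DCoh.inD V' (Coh.structureModule V')) :=
    b ≪≫ (DCoh.Rpush j').mapIso (PerfB.FibreZero.lpullStructure a')
  exact ⟨(DCoh.Rpush q').mapIso (whiskerRightIso b' (DCoh.inD W' P') ≪≫ pr ≪≫ (DCoh.Rpush j').mapIso (u ≪≫ l)) ≪≫
    c.app _ ≪≫ d⟩

/-- `A[n] ⊗ K ≅ (A ⊗ K)[n]`. -/
theorem nonempty_shift_tensor {X : Scheme.{u}} (A K : DCoh.D X) (n : ℤ) :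
    Nonempty ((A⟦n⟧ : DCoh.D X) ⊗ K ≅ ((A ⊗ K : DCoh.D X)⟦n⟧ : DCoh.D X)) := by
  obtain ⟨s⟩ := nonempty_unit_shift (X := X) n
  let O : DCoh.D X := (DCoh.inD X (Coh.structureModule X))⟦n⟧
  obtain ⟨b⟩ := braid O
  exact ⟨whiskerRightIso (s.symm.app A) K ≪≫ α_ A O K ≪≫ whiskerLeftIso A (b.app K).symm ≪≫
    (α_ A K O).symm ≪≫ s.app (A ⊗ K)⟩

/-- Fourier–Mukai functors commute with shifts. -/
theorem fm_shift {W X Y : Scheme.{u}} (p : W ⟶ X) (q : W ⟶ Y) [DCoh.HasLpull p] [DCoh.HasRpush q] (K : DCoh.D W)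
    (A : DCoh.D X) (n : ℤ) :
    Nonempty ((fm p q K).obj (A⟦n⟧) ≅ ((fm p q K).obj A)⟦n⟧) := by
  let _ := DerPull.lpullCommShift p
  let _ := DerSch.rpushCommShift q
  obtain ⟨t⟩ := nonempty_shift_tensor ((DCoh.Lpull p).obj A) K n
  exact ⟨(DCoh.Rpush q).mapIso (whiskerRightIso (((DCoh.Lpull p).commShiftIso n).app A) K ≪≫ t) ≪≫
    ((DCoh.Rpush q).commShiftIso n).app _⟩

/-- Direct images commute with pullbacks along involutions. -/
theorem lpull_rpush {A : Scheme.{u}} (f ν : A ⟶ A) (hν : ν ≫ ν = 𝟙 A) (hf : ν ≫ f = f ≫ ν) [QuasiCompact f]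
    [QuasiSeparated f] [DCoh.HasRpush f] [DCoh.HasLpull ν] :
    Nonempty ((DCoh.Lpull ν).obj ((DCoh.Rpush f).obj (DCoh.inD A (Coh.structureModule A))) ≅
      (DCoh.Rpush f).obj (DCoh.inD A (Coh.structureModule A))) := by
  have : IsIso ν := ⟨ν, hν, hν⟩
  have sq : IsPullback ν f f ν := IsPullback.of_horiz_isIso ⟨hf⟩
  obtain ⟨b⟩ := (bc (Or.inr inferInstance) sq).app (qcO A)
  exact ⟨b ≪≫ (DCoh.Rpush f).mapIso (PerfB.FibreZero.lpullStructure ν)⟩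

/-- Objects in degree zero whose shifts are isomorphic. -/
theorem nonempty_of_shift {X : Scheme.{u}} {M N : X.Modules} (n : ℤ)
    (h : Nonempty ((DCoh.inD X M)⟦n⟧ ≅ (DCoh.inD X N)⟦n⟧)) : Nonempty (M ≅ N) := by
  obtain ⟨e⟩ := h
  exact ⟨(DerivedCategory.singleFunctor X.Modules 0).preimageIso ((shiftFunctor (DCoh.D X) n).preimageIso e)⟩

end K578.PushPoinc
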